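import Groth.Agent.Lib.HomShH7.Basic
import Groth.Agent.Lib.ModM1.Stalk
import Groth.Agent.Lib.CurveCoh17.TensorExact
import Groth.Agent.Lib.CurveCoh17.LES
import Groth.Agent.Lib.CurveCoh17.Section
import Mathlib.Algebra.Module.FinitePresentation

/-!
# Transposes of morphisms of modules

`Hom(M', G) → Hom(M, G)` is surjective on stalks where `M → M'` has a retraction, and `H¹` of a dual is
controlled by the summands.
-/

set_option autoImplicit false
set_option linter.style.haveILetI false
set_option backward.isDefEq.respectTransparency false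

universe u

open CategoryTheory CategoryTheory.Limits AlgebraicGeometry TopologicalSpace Opposite

noncomputable section

namespace Groth.Agent.NormalH1

open Groth.Agent

variable {X : Scheme.{u}} {M M' M'' : X.Modules}

/-- The map on sections, as a linear map. -/
def appLin (ψ : M ⟶ M') (V : X.Opens) : (Γ(M, V) : Type u) →ₗ[Γ(X, V)] (Γ(M', V) : Type u) where
  toFun := ψ.app V
  map_add' := map_add _
  map_smul' r m := Scheme.Modules.Hom.app_smul ψ r m

/-- The transpose on families. -/
def dualFam (ψ : M ⟶ M') (G : X.Modules) {U : X.Opens} (φ : M2.HomSec M' G U) : M2.HomSec M G U :=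
  ⟨fun V => (φ.1 V).comp (appLin ψ V.1), fun V V' h s => by
    show φ.1 V' (ψ.app V'.1 (M1.mres M h s)) = M2.res G h (φ.1 V (ψ.app V.1 s))
    rw [M1.app_mres]
    exact φ.2 V V' h _⟩

/-- The transpose. -/
def dualMap (ψ : M ⟶ M') (G : X.Modules) : M2.homMod M' G ⟶ M2.homMod M G where
  val :=
    { app := fun U => ModuleCat.ofHom (X := (M2.homMod M' G).val.obj U) (Y := (M2.homMod M G).val.obj U)
        { toFun := fun φ => (dualFam ψ G (U := U.unop) φ : M2.HomSec M G U.unop)
          map_add' := fun φ φ' => rfl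
          map_smul' := fun r φ => rfl }
      naturality := fun {U V} i => rfl }

theorem ev_dualMap (ψ : M ⟶ M') (G : X.Modules) {U V : X.Opens} (φ : Γ(M2.homMod M' G, U)) (h : V ≤ U)
    (s : Γ(M, V)) : HomShH7.ev ((dualMap ψ G).app U φ) h s = HomShH7.ev φ h (ψ.app V s) := rfl

theorem dualMap_id (G : X.Modules) : dualMap (𝟙 M) G = 𝟙 _ := by
  refine Scheme.Modules.hom_ext _ _ fun U => ?_
  ext φ
  exact HomShH7.hom_sec_ext _ _ fun V hV s => rfl

theorem dualMap_comp (f : M ⟶ M') (g : M' ⟶ M'') (G : X.Modules) :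
    dualMap (f ≫ g) G = dualMap g G ≫ dualMap f G := by
  refine Scheme.Modules.hom_ext _ _ fun U => ?_
  ext φ
  exact HomShH7.hom_sec_ext _ _ fun V hV s => rfl

theorem dualMap_add (f g : M ⟶ M') (G : X.Modules) : dualMap (f + g) G = dualMap f G + dualMap g G := by
  refine Scheme.Modules.hom_ext _ _ fun U => ?_
  ext φ
  refine HomShH7.hom_sec_ext _ _ fun V hV s => ?_
  exact map_add (HomShH7.ev (φ : Γ(M2.homMod M' G, U)) hV) _ _

/-- Transposition, additively. -/
def dualHom (M M' G : X.Modules) : (M ⟶ M') →+ (M2.homMod M' G ⟶ M2.homMod M G) :=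
  AddMonoidHom.mk' (fun f => dualMap f G) fun f g => dualMap_add f g G

/-- The transpose is surjective on the stalk at a point where the map is injective and the local ring is a
field. -/
theorem surjective_stalk_dualMap (ψ : M ⟶ M') (G : X.Modules) (hM : Coh.IsCoh M) (hM' : Coh.IsCoh M')
    (hG : Coh.IsQCoh G) [IsLocallyNoetherian X] {x : X} (hK : IsField (X.presheaf.stalk x))
    (hinj : Function.Injective (CurveCoh17.stalkLin ψ x)) :
    Function.Surjective (CurveCoh17.stalkLin (dualMap ψ G) x) := by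
  letI : Field (X.presheaf.stalk x) := hK.toField
  obtain ⟨ρ, hρ⟩ := LinearMap.exists_leftInverse_of_injective (CurveCoh17.stalkLin ψ x)
    (LinearMap.ker_eq_bot.2 hinj)
  intro a
  obtain ⟨V₀, hV₀, n₀, rfl⟩ := (M2.homMod M G).presheaf.germ_exist a
  obtain ⟨W, hW, hxW, hWle⟩ := exists_isAffineOpen_mem_and_subset (U := V₀) (x := x) hV₀
  rw [← M1.germ_mres (M2.homMod M G) hWle hxW]
  generalize M1.mres (M2.homMod M G) hWle n₀ = n
  haveI := hM.1
  haveI := hM'.1
  haveI : IsNoetherianRing Γ(X, W) := IsLocallyNoetherian.component_noetherian ⟨W, hW⟩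
  haveI : Module.Finite Γ(X, W) Γ(M, W) := M1.finite_sections hM.1 hM.2 hW
  haveI : Module.Finite Γ(X, W) Γ(M', W) := M1.finite_sections hM'.1 hM'.2 hW
  haveI : Module.FinitePresentation Γ(X, W) Γ(M', W) := Module.finitePresentation_of_finite _ _
  letI := M1.stalkModule M hxW
  letI := M1.stalkModule M' hxW
  haveI := M1.isLocalizedModule_germ M hW hxW
  let S := (hW.primeIdealOf ⟨x, hxW⟩).asIdeal.primeCompl
  let g : (Γ(M', W) : Type u) →ₗ[Γ(X, W)] M.presheaf.stalk x :=
    { toFun := fun m => ρ (M'.presheaf.germ W x hxW m)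
      map_add' := fun m m' => by rw [map_add, map_add]
      map_smul' := fun r m => by rw [M1.germ_smul, map_smul]; rfl }
  obtain ⟨h', s, hh'⟩ := Module.FinitePresentation.exists_lift_of_isLocalizedModule S (M1.germₗ M hxW) g
  have h2 : (M1.germₗ M hxW).comp (h'.comp (appLin ψ W)) =
      (M1.germₗ M hxW).comp ((s : Γ(X, W)) • LinearMap.id) := LinearMap.ext fun m => by
    show M1.germₗ M hxW (h' (ψ.app W m)) = M1.germₗ M hxW ((s : Γ(X, W)) • m)
    refine (LinearMap.congr_fun hh' (ψ.app W m)).trans ?_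
    refine Eq.trans ?_ ((M1.germₗ M hxW).map_smul (s : Γ(X, W)) m).symm
    show (s : Γ(X, W)) • ρ (M'.presheaf.germ W x hxW (ψ.app W m)) = (s : Γ(X, W)) • M.presheaf.germ W x hxW m
    congr 1
    rw [← M1.germ_naturality ψ W x hxW m]
    exact LinearMap.congr_fun hρ _
  obtain ⟨t, ht⟩ := Module.Finite.exists_smul_of_comp_eq_of_isLocalizedModule S (M1.germₗ M hxW) _ _ h2
  let R : (Γ(M', W) : Type u) →ₗ[Γ(X, W)] (Γ(M, W) : Type u) := (t : Γ(X, W)) • h'
  obtain ⟨n', hn'⟩ := HomShH7.exists_ev_eq hM'.1 hG hW ((HomShH7.ev n le_rfl).comp R)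
  let c : Γ(X, W) := (t : Γ(X, W)) * s
  have hkey : (dualMap ψ G).app W n' = c • n := by
    refine HomShH7.ext_affine hM.1 hW _ _ fun m => ?_
    rw [ev_dualMap, hn', HomShH7.ev_smul, M1.ores_id, ← map_smul]
    show HomShH7.ev n le_rfl ((t : Γ(X, W)) • h' (ψ.app W m)) = _
    congr 1
    refine (LinearMap.congr_fun ht m).trans ?_
    exact (mul_smul _ _ _).symm
  have hu : IsUnit (X.presheaf.germ W x hxW c) := (M1.isUnit_germ_iff hW hxW c).2 (mul_mem t.2 s.2)
  obtain ⟨v, hv⟩ := hu
  refine ⟨(↑v⁻¹ : X.presheaf.stalk x) • (M2.homMod M' G).presheaf.germ W x hxW n', ?_⟩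
  rw [map_smul]
  have : CurveCoh17.stalkLin (dualMap ψ G) x ((M2.homMod M' G).presheaf.germ W x hxW n') =
      (M2.homMod M G).presheaf.germ W x hxW ((dualMap ψ G).app W n') := M1.germ_naturality (dualMap ψ G) W x hxW n'
  rw [this, hkey, M1.germ_smul, ← hv, ← mul_smul, Units.inv_mul, one_smul]

variable (A : Type u) [CommRing A] [X.Over (Spec (CommRingCat.of A))]

include A in
/-- `H¹` of the dual of a finite sum vanishes with those of the duals of the summands. -/
theorem subsingleton_h1_dual {ι : Type} [Fintype ι] {F L : X.Modules} (a : ι → (F ⟶ L)) (b : ι → (L ⟶ F))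
    (h : ∑ j, a j ≫ b j = 𝟙 F) (G : X.Modules) [Subsingleton (Coh.HH X (M2.homMod L G) 1)] :
    Subsingleton (Coh.HH X (M2.homMod F G) 1) := by
  refine subsingleton_of_forall_eq 0 fun z => ?_
  have h1 : ∑ j, dualMap (b j) G ≫ dualMap (a j) G = 𝟙 (M2.homMod F G) := by
    rw [← dualMap_id, ← h]
    show _ = dualHom F F G _
    rw [map_sum]
    exact Finset.sum_congr rfl fun j _ => (dualMap_comp _ _ G).symm
  have h2 : CurveCoh17.hmap A (∑ j, dualMap (b j) G ≫ dualMap (a j) G) 1 z =
      ∑ j, CurveCoh17.hmap A (dualMap (b j) G ≫ dualMap (a j) G) 1 z := by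
    classical
    induction (Finset.univ : Finset ι) using Finset.induction_on with
    | empty => simp [CurveCoh17.hmap_zero]
    | insert j s hj ih =>
      rw [Finset.sum_insert hj, Finset.sum_insert hj, ← ih]
      exact CurveCoh17.hmap₀_add _ _ 1 z
  rw [h1, CurveCoh17.hmap_id] at h2
  rw [h2]
  exact Finset.sum_eq_zero fun j _ => by
    rw [CurveCoh17.hmap_comp, Subsingleton.elim (CurveCoh17.hmap A (dualMap (b j) G) 1 z) 0, map_zero]

end Groth.Agent.NormalH1
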