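import Groth.Agent.Lib.Euler2.Pn
import Groth.Agent.Lib.Omega12.Exists
import Groth.Agent.Lib.CohFound.SerreVan
import Groth.Agent.Lib.CohFound.ProjQuot
import Groth.Agent.Lib.KFlat.Pullback
import Groth.Agent.Lib.KFlat.LpullPC
import Groth.Agent.Lib.KoszShH13.Twist
import Groth.Agent.Lib.Twist.Tensor
import Groth.Agent.Lib.Twist.Pullback

/-!
# Differentials of projective space inside a sum of twists, pulled back
-/

set_option autoImplicit false
set_option linter.style.haveILetI false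
set_option backward.isDefEq.respectTransparency false
set_option backward.isDefEq.respectTransparency.types false
set_option maxHeartbeats 1000000

universe u

open CategoryTheory CategoryTheory.Limits AlgebraicGeometry TopologicalSpace Opposite

noncomputable section

namespace Groth.Agent.NormalH1

open Groth.Agent

/-- `i^*Ω ↪ O(-1)^{n+1}`. -/
theorem exists_omega_embedding (n : ℕ) (R : Type u) [CommRing R] [IsNoetherianRing R] {Y : Scheme.{u}}
    [IsLocallyNoetherian Y] (i : Y ⟶ CohB1.ProjSpace n R) :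
    ∃ (Ω : (CohB1.ProjSpace n R).Modules) (d : OmegaSh.Der (CohB1.ProjSpace.toSpec n R) Ω) (F : Y.Modules)
      (q : (Scheme.Modules.pullback i).obj Ω ⟶ F) (L : Y.Modules)
      (a : Fin (n + 1) → (F ⟶ L)) (b : Fin (n + 1) → (L ⟶ F)),
      OmegaSh.IsUniversal d ∧ Mono q ∧ Coh.IsCoh F ∧ PicF.IsInvertible L ∧ ∑ j, a j ≫ b j = 𝟙 F ∧
      Nonempty (CohB1.tensorMod L ((Scheme.Modules.pullback i).obj (_root_.Twist.twistProjSpace n R 1)) ≅
        Coh.structureModule Y) := by
  let P := CohB1.ProjSpace n R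
  let p := CohB1.ProjSpace.toSpec n R
  let O1 := _root_.Twist.twistProjSpace n R 1
  let E := _root_.Twist.twistProjSpace n R (-1)
  let S₀ := Spec (CommRingCat.of R)
  have hcov := Twist.iSup_basicOpen_one n R
  have hE : PicF.IsInvertible E := Twist.isInvertible_twistProjSpace n R _
  have hO1 : PicF.IsInvertible O1 := Twist.isInvertible_twistProjSpace n R _
  obtain ⟨tt⟩ := Twist.nonempty_tensor_iso (CohB1.polyGrading n R) 1 (-1) hcov
  obtain ⟨z⟩ := Twist.nonempty_twist_zero_iso (CohB1.polyGrading n R)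
  let τ : CohB1.tensorMod O1 E ≅ Coh.structureModule P :=
    tt ≪≫ eqToIso (congrArg (_root_.Twist.twist (CohB1.polyGrading n R)) (by ring)) ≪≫ z
  obtain ⟨Ω, d, hd⟩ := Omega12.exists_isUniversal p
  obtain ⟨u, hu, ⟨α⟩⟩ := Euler2.exists_euler_projSpace n R hd
  haveI := hu
  let S₁ : ShortComplex P.Modules := ShortComplex.mk (kernel.ι u) u (kernel.condition u)
  have hS₁ : S₁.ShortExact := ShortComplex.ShortExact.mk' (ShortComplex.exact_kernel u) inferInstance hu
  let S := S₁.map (M2.tensorR E)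
  have hS : S.ShortExact := CohFound.shortExact_tensor_invertible hS₁ hE
  have h3 : KFlat.IsFlat (KFlat.Sch.TX P) S.X₃ := (KFlat.Sch.isFlat_iff S.X₃).2
    (KFlat.Sch.isFlat_of_isFinLocFree (M2.isFinLocFree_of_isInvertible (M2.isInvertible_tensor hO1 hE)))
  haveI := KFlat.Sch.mono_pullback_map i S hS h3
  let γ : Ω ≅ CohB1.tensorMod (kernel u) E :=
    (M2.tensorRUnit Ω).symm ≪≫ M2.tensorIso (Iso.refl Ω) τ.symm ≪≫ (M2.tensorAssoc Ω O1 E).symm ≪≫
      M2.tensorIso α (Iso.refl E)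
  let q : (Scheme.Modules.pullback i).obj Ω ⟶ (Scheme.Modules.pullback i).obj S.X₂ :=
    ((Scheme.Modules.pullback i).mapIso γ).hom ≫ (Scheme.Modules.pullback i).map S.f
  let Φ : S₀.Modules ⥤ Y.Modules :=
    Scheme.Modules.pullback p ⋙ M2.tensorR E ⋙ Scheme.Modules.pullback i
  haveI : Φ.Additive := inferInstance
  let O₀ : Fin (n + 1) → S₀.Modules := fun _ => Coh.structureModule S₀
  let ε : Φ.obj (Coh.structureModule S₀) ≅ (Scheme.Modules.pullback i).obj E :=
    (Scheme.Modules.pullback i).mapIso (M2.tensorIso (PicLoc.pullbackStructureIso p) (Iso.refl E) ≪≫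
      M2.tensorLUnit E)
  refine ⟨Ω, d, (Scheme.Modules.pullback i).obj S.X₂, q, (Scheme.Modules.pullback i).obj E,
    fun j => Φ.map (Sigma.π O₀ j) ≫ ε.hom, fun j => ε.inv ≫ Φ.map (Sigma.ι O₀ j), hd, mono_comp _ _, ?_,
    Twist.isInvertible_pullback _ hE, ?_, ?_⟩
  · exact CohFound.isCoh_of_isFinLocFree (M2.isFinLocFree_pullback i (M2.isFinLocFree_tensor
      (M2.isFinLocFree_pullback p (Euler2.isFinLocFree_freeMod _ _)) (M2.isFinLocFree_of_isInvertible hE)))
  · have h : ∀ j, (Φ.map (Sigma.π O₀ j) ≫ ε.hom) ≫ ε.inv ≫ Φ.map (Sigma.ι O₀ j) =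
        Φ.map (Sigma.π O₀ j ≫ Sigma.ι O₀ j) := fun j => by
      rw [Category.assoc, Iso.hom_inv_id_assoc, Functor.map_comp]
    rw [Finset.sum_congr rfl fun j _ => h j, ← Functor.map_sum, KoszShH13.sum_π_ι, CategoryTheory.Functor.map_id]
    rfl
  · exact ⟨(M2.pullTensorIso i E O1).symm ≪≫ (Scheme.Modules.pullback i).mapIso (M2.tensorComm E O1 ≪≫ τ) ≪≫
      PicLoc.pullbackStructureIso i⟩

end Groth.Agent.NormalH1
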